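import Cfsg.Agent.Lib.ClassGraph.GoodPrimes
import Mathlib.GroupTheory.Solvable

/-!
A class size prime with a non-central Sylow normalizer and a non-adjacent prime.
-/

set_option autoImplicit false

namespace CfsgLib.ClassGraph

open Subgroup

variable {G : Type*} [Group G] [Finite G]

theorem normal_of_commutator_le {H : Subgroup G} (h : commutator G ≤ H) : H.Normal :=
  ⟨fun n hn g => by
    have hc : g * n * g⁻¹ * n⁻¹ ∈ H :=
      h (by rw [commutator_eq_closure]; exact subset_closure ⟨g, n, rfl⟩)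
    have := H.mul_mem hc hn
    simpa [mul_assoc] using this⟩

/-- a non-central element has a non-central prime power power -/
theorem exists_primePow_not_commute (h : G) : ∀ (n : ℕ) (z : G), orderOf z = n → ¬ Commute h z →
    ∃ (i s e : ℕ), s.Prime ∧ orderOf (z ^ i) = s ^ e ∧ ¬ Commute h (z ^ i) := by
  intro n
  induction n using Nat.recOnPrimeCoprime with
  | zero => intro z hz _; exact absurd hz (orderOf_pos z).ne'
  | prime_pow p e hp => intro z hz hc; exact ⟨1, p, e, hp, by rw [pow_one, hz], by rwa [pow_one]⟩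
  | coprime a b ha hb hab iha ihb =>
    intro z hz hc
    have hc' : ¬ Commute h (z ^ a) ∨ ¬ Commute h (z ^ b) := by
      by_contra hh
      simp only [not_or, not_not] at hh
      exact hc (commute_of_coprime hab hh.1 hh.2)
    rcases hc' with hh | hh
    · obtain ⟨i, s, e, hs, ho, hn⟩ := ihb (z ^ a)
        (by rw [orderOf_pow_of_dvd (by omega) (hz ▸ dvd_mul_right a b), hz,
          Nat.mul_div_cancel_left b (by omega)]) hh
      exact ⟨a * i, s, e, hs, by rwa [pow_mul], by rwa [pow_mul]⟩
    · obtain ⟨i, s, e, hs, ho, hn⟩ := iha (z ^ b)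
        (by rw [orderOf_pow_of_dvd (by omega) (hz ▸ dvd_mul_left b a), hz,
          Nat.mul_div_cancel a (by omega)]) hh
      exact ⟨b * i, s, e, hs, by rwa [pow_mul], by rwa [pow_mul]⟩

/-- If every prime sharing a class size with `q` (and `q` itself) is good, `G` is solvable
as soon as `q` divides a class size. -/
theorem isSolvable_of_good_nbhd {q : ℕ} [hqf : Fact q.Prime] {z : G} (hz : q ∣ cIdx z)
    (hgood : ∀ r : ℕ, r.Prime → (r = q ∨ ∃ x : G, q * r ∣ cIdx x) → Good r G) :
    Group.IsSolvable G := by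
  classical
  set S : Set ℕ := {r : ℕ | r.Prime ∧ (r = q ∨ ∃ x : G, q * r ∣ cIdx x)} with hS
  have hcompl : ∀ r : S, ∃ N : Subgroup G, N.Normal ∧ commutator G ≤ N ∧ ¬ (r : ℕ) ∣ Nat.card N := by
    rintro ⟨r, hr, hr'⟩
    have : Fact r.Prime := ⟨hr⟩
    obtain ⟨R⟩ := (inferInstance : Nonempty (Sylow r G))
    have hR := hgood r hr hr' R
    refine ⟨(MonoidHom.transferSylow R hR).ker, inferInstance, ?_,
      MonoidHom.not_dvd_card_ker_transferSylow R hR⟩
    rw [commutator_eq_closure, closure_le]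
    rintro _ ⟨a, b, rfl⟩
    rw [SetLike.mem_coe, MonoidHom.mem_ker, map_commutatorElement, commutatorElement_eq_one_iff_mul_comm]
    exact Subtype.ext ((mem_centralizer_iff.mp (hR (le_normalizer (MonoidHom.transferSylow R hR a).2)))
      _ (MonoidHom.transferSylow R hR b).2).symm
  choose N hNn hNc hNd using hcompl
  set K : Subgroup G := ⨅ r, N r with hK
  have hKc : commutator G ≤ K := le_iInf hNc
  have hKn : K.Normal := normal_of_commutator_le hKc
  have hKd : ∀ r : ℕ, r.Prime → (r = q ∨ ∃ x : G, q * r ∣ cIdx x) → ¬ r ∣ Nat.card K :=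
    fun r hr hr' hd => hNd ⟨r, hr, hr'⟩ (hd.trans (card_dvd_of_le (iInf_le _ _)))
  have cent : ∀ w : G, (∀ r : ℕ, r.Prime → r ∣ cIdx w → r = q ∨ ∃ x : G, q * r ∣ cIdx x) →
      K ≤ centralizer ({w} : Set G) := by
    intro w hw
    rw [← relIndex_eq_one, Nat.eq_one_iff_not_exists_prime_dvd]
    intro r hr hd
    refine hKd r hr (hw r hr (hd.trans ?_)) (hd.trans (relIndex_dvd_card _ _))
    set C := centralizer ({w} : Set G)
    have e1 : C.relIndex K * K.index = (C ⊓ K).index := by
      rw [← relIndex_mul_index (inf_le_right : C ⊓ K ≤ K), inf_relIndex_right]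
    have e2 : K.relIndex C * C.index = (C ⊓ K).index := by
      rw [← relIndex_mul_index (inf_le_left : C ⊓ K ≤ C), inf_comm, inf_relIndex_right]
    have e3 : K.relIndex C * (C ⊔ K).index = K.index := by
      rw [← relIndex_sup_right C K]; exact relIndex_mul_index le_sup_right
    refine Dvd.intro ((C ⊔ K).index) (Nat.eq_of_mul_eq_mul_left
      (Nat.pos_of_ne_zero (index_ne_zero_of_finite (H := K.subgroupOf C))) ?_)
    change K.relIndex C * _ = K.relIndex C * _
    rw [show cIdx w = C.index from rfl, e2, ← e1, ← e3]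
    ring
  have hzK : K ≤ centralizer ({z} : Set G) := cent z fun r hr hd => by
    by_cases hrq : r = q
    · exact Or.inl hrq
    · exact Or.inr ⟨z, ((Nat.coprime_primes hqf.out hr).mpr (Ne.symm hrq)).mul_dvd_of_dvd_of_dvd hz hd⟩
  have hCn := normal_of_commutator_le (hKc.trans hzK)
  obtain ⟨Q⟩ := (inferInstance : Nonempty (Sylow q G))
  obtain ⟨h, hhQ, hhz⟩ : ∃ h ∈ Q, ¬ Commute h z := by
    by_contra hh
    push Not at hh
    exact Q.not_dvd_index (hz.trans (index_dvd_of_le fun y hy => mem_cent.mpr (hh y hy)))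
  obtain ⟨i, s, e, hs, ho, hni⟩ := exists_primePow_not_commute h _ z rfl hhz
  set ζ := z ^ i with hζ
  have hζK : K ≤ centralizer ({ζ} : Set G) := hzK.trans (centralizer_le_pow z i)
  have hζn := normal_of_commutator_le (hKc.trans hζK)
  have hqζ : q ∣ cIdx ζ := by
    by_contra hd
    obtain ⟨x, hx⟩ := exists_conj_of_not_dvd Q hd
    apply hni
    have := hζn.conj_mem _ (hx h hhQ) x⁻¹
    exact mem_cent.mp (by simpa [mul_assoc] using this)
  have hcentral : ∀ w : G, w ∈ K → (orderOf w).Coprime s → K ≤ centralizer ({w} : Set G) := by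
    intro w hw hco
    obtain ⟨h1, h2⟩ := cIdx_dvd_mul (mem_cent.mp (hζK hw))
      (show (orderOf w).Coprime (orderOf ζ) by rw [ho]; exact hco.pow_right e)
    refine cent w fun r hr hd => ?_
    by_cases hrq : r = q
    · exact Or.inl hrq
    · exact Or.inr ⟨w * ζ, ((Nat.coprime_primes hqf.out hr).mpr (Ne.symm hrq)).mul_dvd_of_dvd_of_dvd
        (hqζ.trans h2) (hd.trans h1)⟩
  have : Fact s.Prime := ⟨hs⟩
  have hP : IsPGroup s (↥K ⧸ center ↥K) := by
    intro y
    obtain ⟨k, rfl⟩ := QuotientGroup.mk_surjective y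
    obtain ⟨e', m, hm, hem⟩ := Nat.exists_eq_pow_mul_and_not_dvd (orderOf_pos k).ne' s hs.ne_one
    refine ⟨e', ?_⟩
    rw [← QuotientGroup.mk_pow, QuotientGroup.eq_one_iff, mem_center_iff]
    intro g
    have hco : (orderOf ((k : G) ^ s ^ e')).Coprime s := by
      rw [← Subgroup.coe_pow, orderOf_coe, orderOf_pow_of_dvd (pow_ne_zero _ hs.ne_zero)
        (hem ▸ dvd_mul_right _ _), hem, Nat.mul_div_cancel_left m (pow_pos hs.pos _)]
      exact ((Nat.Prime.coprime_iff_not_dvd hs).mpr hm).symm
    have := hcentral _ (K.pow_mem k.2 _) hco g.2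
    exact Subtype.ext (mem_cent.mp this).eq
  have hnil : Group.IsNilpotent ↥K := Group.of_quotient_center_nilpotent hP.isNilpotent
  have hab : Group.IsSolvable (G ⧸ K) := Group.isSolvable_of_comm (fun a b => by
    obtain ⟨a, rfl⟩ := QuotientGroup.mk_surjective a
    obtain ⟨b, rfl⟩ := QuotientGroup.mk_surjective b
    rw [← QuotientGroup.mk_mul, ← QuotientGroup.mk_mul, QuotientGroup.eq]
    exact hKc (by rw [commutator_eq_closure]; exact subset_closure ⟨b⁻¹, a⁻¹, by
      rw [commutatorElement_def]; group⟩))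
  exact Group.isSolvable_of_ker_le_range K.subtype (QuotientGroup.mk' K) (by simp)

end CfsgLib.ClassGraph
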