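import Mathlib.GroupTheory.Transfer
import Mathlib.GroupTheory.Sylow
import Mathlib.GroupTheory.Nilpotent
import Mathlib.Data.Nat.Factorization.Induction

/-!
Class size prime graphs: primes with a central Sylow normalizer, and commuting normal closures.
-/

set_option autoImplicit false

namespace CfsgLib.ClassGraph

open Subgroup

variable {G : Type*} [Group G]

/-- the size of the conjugacy class of `x`, as an index -/
noncomputable def cIdx (x : G) : ℕ := (Subgroup.centralizer ({x} : Set G)).index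

theorem mem_cent {x h : G} : h ∈ centralizer ({x} : Set G) ↔ Commute h x :=
  mem_centralizer_singleton_iff

theorem cIdx_conj (g x : G) : cIdx (g * x * g⁻¹) = cIdx x := by
  rw [cIdx, cIdx]
  have : centralizer ({g * x * g⁻¹} : Set G) =
      (centralizer ({x} : Set G)).map (MulAut.conj g).toMonoidHom := by
    ext y
    simp only [mem_map, mem_cent, MulEquiv.coe_toMonoidHom, MulAut.conj_apply]
    constructor
    · intro h
      refine ⟨g⁻¹ * y * g, ?_, by group⟩
      have := h.map (MulAut.conj g⁻¹).toMonoidHom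
      simpa [MulAut.conj_apply, mul_assoc] using this
    · rintro ⟨z, hz, rfl⟩
      simpa [MulAut.conj_apply] using hz.map (MulAut.conj g).toMonoidHom
  rw [this]
  exact index_map_of_bijective (MulAut.conj g).bijective _

theorem commute_of_coprime {h g : G} {i j : ℕ} (hij : i.Coprime j) (hi : Commute h (g ^ i))
    (hj : Commute h (g ^ j)) : Commute h g := by
  have e : g = (g ^ i) ^ Nat.gcdA i j * (g ^ j) ^ Nat.gcdB i j := by
    rw [← zpow_natCast, ← zpow_natCast, ← zpow_mul, ← zpow_mul, ← zpow_add,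
      ← Nat.gcd_eq_gcd_ab, hij, Nat.cast_one, zpow_one]
  rw [e]
  exact (hi.zpow_right _).mul_right (hj.zpow_right _)

theorem centralizer_le_pow (g : G) (i : ℕ) :
    centralizer ({g} : Set G) ≤ centralizer ({g ^ i} : Set G) := fun _ hh =>
  mem_cent.mpr ((mem_cent.mp hh).pow_right i)

theorem cIdx_pow_dvd (g : G) (i : ℕ) : cIdx (g ^ i) ∣ cIdx g :=
  index_dvd_of_le (centralizer_le_pow g i)

/-- commuting elements of coprime orders: both class sizes divide that of the product -/
theorem cIdx_dvd_mul {a b : G} (hab : Commute a b) (hco : (orderOf a).Coprime (orderOf b)) :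
    cIdx a ∣ cIdx (a * b) ∧ cIdx b ∣ cIdx (a * b) := by
  have key : ∀ a b : G, Commute a b → (orderOf a).Coprime (orderOf b) →
      centralizer ({a * b} : Set G) ≤ centralizer ({b} : Set G) := by
    intro a b hab hco h hh
    refine mem_cent.mpr (commute_of_coprime hco ?_ ?_)
    · have := (mem_cent.mp hh).pow_right (orderOf a)
      rwa [hab.mul_pow, pow_orderOf_eq_one, one_mul] at this
    · rw [pow_orderOf_eq_one]; exact Commute.one_right h
  refine ⟨index_dvd_of_le ?_, index_dvd_of_le (key a b hab hco)⟩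
  rw [hab.eq]; exact key b a hab.symm hco.symm

variable [Finite G]

theorem card_covered_le (H M : Subgroup G) (hM : ∀ m ∈ M, ∀ h ∈ H, m * h * m⁻¹ ∈ H) :
    Nat.card {g : G // g ≠ 1 ∧ ∃ x : G, x⁻¹ * g * x ∈ H} ≤ M.index * (Nat.card H - 1) := by
  classical
  have e : Nat.card {h : H // h ≠ 1} = Nat.card H - 1 := by
    have := Fintype.ofFinite H
    simp [Nat.card_eq_fintype_card, Fintype.card_subtype_compl]
  rw [← e, index, ← Nat.card_prod]
  refine (Nat.card_le_card_of_surjective
    (fun qh : (G ⧸ M) × {h : H // h ≠ 1} =>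
      (⟨qh.1.out * (qh.2.1 : G) * qh.1.out⁻¹, fun e1 => qh.2.2 ?_, qh.1.out, ?_⟩ :
        {g : G // g ≠ 1 ∧ ∃ x : G, x⁻¹ * g * x ∈ H})) ?_)
  · apply Subtype.ext; simpa using e1
  · convert qh.2.1.2 using 1; group
  · rintro ⟨g, hg, x, hx⟩
    obtain ⟨m, hm⟩ := QuotientGroup.mk_out_eq_mul M x
    refine ⟨((x : G ⧸ M), ⟨⟨(m : G)⁻¹ * (x⁻¹ * g * x) * m, ?_⟩, ?_⟩), ?_⟩
    · simpa using hM (m : G)⁻¹ (M.inv_mem m.2) _ hx
    · intro e1
      apply hg
      have := congrArg Subtype.val e1
      simp only [OneMemClass.coe_one] at this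
      calc g = x * m * ((m : G)⁻¹ * (x⁻¹ * g * x) * m) * (x * m)⁻¹ := by group
        _ = 1 := by rw [this]; group
    · apply Subtype.ext
      show (x : G ⧸ M).out * _ * (x : G ⧸ M).out⁻¹ = g
      rw [hm]; group

theorem eq_top_of_covered {H : Subgroup G} (h : ∀ g : G, ∃ x : G, x⁻¹ * g * x ∈ H) : H = ⊤ := by
  classical
  have h1 := card_covered_le H H (fun m hm a ha => H.mul_mem (H.mul_mem hm ha) (H.inv_mem hm))
  have e : Nat.card {g : G // g ≠ 1 ∧ ∃ x : G, x⁻¹ * g * x ∈ H} = Nat.card G - 1 := by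
    have := Fintype.ofFinite G
    rw [Nat.card_congr (Equiv.subtypeEquivRight (q := fun g : G => g ≠ 1) (fun g => and_iff_left (h g)))]
    simp [Nat.card_eq_fintype_card, Fintype.card_subtype_compl]
  rw [e, Nat.mul_sub_one, index_mul_card] at h1
  have h2 : 0 < Nat.card G := Nat.card_pos
  have h3 : 0 < H.index := Nat.pos_of_ne_zero index_ne_zero_of_finite
  have h4 : H.index ≤ Nat.card G := Nat.le_of_dvd h2 H.index_dvd_card
  exact index_eq_one.mp (by omega)

theorem exists_sylow_le_of_not_dvd {p : ℕ} [Fact p.Prime] {H : Subgroup G} (h : ¬ p ∣ H.index) :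
    ∃ P : Sylow p G, (P : Subgroup G) ≤ H := by
  obtain ⟨Q⟩ := (inferInstance : Nonempty (Sylow p ↥H))
  refine ⟨Sylow.ofCard ((Q : Subgroup ↥H).map H.subtype) ?_, ?_⟩
  · rw [card_map_of_injective H.subtype_injective, Q.card_eq_multiplicity]
    congr 1
    rw [← H.card_mul_index, Nat.factorization_mul Nat.card_pos.ne' index_ne_zero_of_finite,
      Finsupp.add_apply, Nat.factorization_eq_zero_of_not_dvd h, add_zero]
  · exact map_subtype_le _

theorem exists_conj_of_not_dvd {p : ℕ} [Fact p.Prime] (P : Sylow p G) {H : Subgroup G}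
    (h : ¬ p ∣ H.index) : ∃ x : G, ∀ y ∈ P, x * y * x⁻¹ ∈ H := by
  obtain ⟨P', hP'⟩ := exists_sylow_le_of_not_dvd h
  obtain ⟨x, hx⟩ := MulAction.exists_smul_eq G P P'
  refine ⟨x, fun y hy => hP' ?_⟩
  rw [← hx, Sylow.coe_subgroup_smul]
  exact ⟨y, hy, rfl⟩

/-- the Sylow subgroups for `p` are central in their normalizers -/
def Good (p : ℕ) (G : Type*) [Group G] : Prop :=
  ∀ P : Sylow p G, normalizer ((P : Subgroup G) : Set G) ≤ centralizer ((P : Subgroup G) : Set G)

theorem good_or_good {p r : ℕ} [Fact p.Prime] [Fact r.Prime]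
    (h : ∀ g : G, ¬ (p ∣ cIdx g ∧ r ∣ cIdx g)) : Good p G ∨ Good r G := by
  classical
  by_contra hc
  simp only [Good, not_or, not_forall] at hc
  obtain ⟨⟨P, hP⟩, ⟨R, hR⟩⟩ := hc
  have key : ∀ (s : ℕ) (S : Sylow s G),
      ¬ normalizer ((S : Subgroup G) : Set G) ≤ centralizer ((S : Subgroup G) : Set G) →
      2 * Nat.card {g : G // g ≠ 1 ∧ ∃ x : G, x⁻¹ * g * x ∈ centralizer ((S : Subgroup G) : Set G)}
        + 2 ≤ Nat.card G := by
    intro s S hS
    set C := centralizer ((S : Subgroup G) : Set G) with hC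
    set N := normalizer ((S : Subgroup G) : Set G) with hN
    have hCN : C ≤ N := centralizer_le_normalizer _
    have h1 := card_covered_le C N (fun m hm c hc => by
      rw [hC, mem_centralizer_iff] at hc ⊢
      intro y hy
      have hy' : m⁻¹ * y * m ∈ ((S : Subgroup G) : Set G) := by
        rw [hN, mem_normalizer_iff''] at hm
        exact (hm y).mp hy
      have h2 := hc _ hy'
      calc y * (m * c * m⁻¹) = m * ((m⁻¹ * y * m) * c) * m⁻¹ := by group
        _ = m * (c * (m⁻¹ * y * m)) * m⁻¹ := by rw [h2]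
        _ = m * c * m⁻¹ * y := by group)
    have hlt : 2 * Nat.card C ≤ Nat.card N := by
      obtain ⟨k, hk⟩ := card_dvd_of_le hCN
      have : 2 ≤ k := by
        by_contra hk2
        interval_cases k
        · have : 0 < Nat.card N := Nat.card_pos
          omega
        · exact hS (eq_of_le_of_card_ge hCN (by omega)).ge
      nlinarith
    have h3 : 0 < N.index := Nat.pos_of_ne_zero index_ne_zero_of_finite
    have h4 : 0 < Nat.card C := Nat.card_pos
    have h5 := N.card_mul_index
    nlinarith [Nat.sub_add_cancel h4]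
  have h1 := key p P hP
  have h2 := key r R hR
  have hcov : Nat.card {g : G // g ≠ 1} ≤
      Nat.card {g : G // g ≠ 1 ∧ ∃ x : G, x⁻¹ * g * x ∈ centralizer ((P : Subgroup G) : Set G)} +
      Nat.card {g : G // g ≠ 1 ∧ ∃ x : G, x⁻¹ * g * x ∈ centralizer ((R : Subgroup G) : Set G)} := by
    have := Fintype.ofFinite G
    simp only [Nat.card_eq_fintype_card, Fintype.card_subtype]
    refine le_trans (Finset.card_le_card ?_) (Finset.card_union_le _ _)
    intro g hg
    simp only [Finset.mem_filter, Finset.mem_univ, true_and, Finset.mem_union] at hg ⊢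
    have move : ∀ (s : ℕ) [Fact s.Prime] (S : Sylow s G), ¬ s ∣ cIdx g →
        ∃ x : G, x⁻¹ * g * x ∈ centralizer ((S : Subgroup G) : Set G) := by
      intro s _ S hs
      obtain ⟨x, hx⟩ := exists_conj_of_not_dvd S hs
      refine ⟨x, mem_centralizer_iff.mpr fun y hy => ?_⟩
      have h2 := (mem_cent.mp (hx y hy)).eq
      calc y * (x⁻¹ * g * x) = x⁻¹ * ((x * y * x⁻¹) * g) * x := by group
        _ = x⁻¹ * (g * (x * y * x⁻¹)) * x := by rw [h2]
        _ = x⁻¹ * g * x * y := by group
    rcases not_and_or.mp (h g) with hp | hr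
    · exact Or.inl ⟨hg, move p P hp⟩
    · exact Or.inr ⟨hg, move r R hr⟩
  have e : Nat.card {g : G // g ≠ 1} = Nat.card G - 1 := by
    have := Fintype.ofFinite G
    simp [Nat.card_eq_fintype_card, Fintype.card_subtype_compl]
  omega

/-- conjugates inside a Sylow subgroup central in its normalizer are equal -/
theorem conj_eq_of_mem {p : ℕ} [Fact p.Prime] (hp : Good p G) (P : Sylow p G) {a x : G}
    (ha : a ∈ P) (hx : x * a * x⁻¹ ∈ P) : x * a * x⁻¹ = a := by
  have := MonoidHom.transferSylow_eq_pow_aux P (hp P) a ha 1 x⁻¹ (by simpa using hx)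
  simpa using this

theorem mem_kernel_of_isPElement {p q : ℕ} [Fact p.Prime] [Fact q.Prime] (hpq : p ≠ q)
    (hq : Good q G) (Q : Sylow q G) {a : G} {k : ℕ} (ha : a ^ p ^ k = 1) :
    a ∈ (MonoidHom.transferSylow Q (hq Q)).ker := by
  obtain ⟨j, hj⟩ := Q.2 (MonoidHom.transferSylow Q (hq Q) a)
  rw [MonoidHom.mem_ker, ← orderOf_eq_one_iff]
  exact Nat.eq_one_of_dvd_coprimes (Nat.Coprime.pow k j
    ((Nat.coprime_primes Fact.out Fact.out).mpr hpq))
    (orderOf_dvd_of_pow_eq_one (by rw [← map_pow, ha, map_one])) (orderOf_dvd_of_pow_eq_one hj)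

/-- elements of a good Sylow `p`-subgroup centralize a Sylow `q`-subgroup, `q` good -/
theorem not_dvd_cIdx_of_good {p q : ℕ} [Fact p.Prime] [Fact q.Prime] (hpq : p ≠ q)
    (hp : Good p G) (hq : Good q G) (P : Sylow p G) {a : G} (ha : a ∈ P) :
    ¬ q ∣ cIdx a := by
  obtain ⟨Q⟩ := (inferInstance : Nonempty (Sylow q G))
  set K := (MonoidHom.transferSylow Q (hq Q)).ker with hK
  have hPK : (P : Subgroup G) ≤ K := fun y hy => by
    obtain ⟨k, hk⟩ := P.2 ⟨y, hy⟩
    exact mem_kernel_of_isPElement hpq hq Q (k := k) (by simpa using congrArg Subtype.val hk)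
  have hsup := Sylow.normalizer_sup_eq_top' P hPK
  intro hdvd
  have h1 : (normalizer ((P : Subgroup G) : Set G)).index ∣ Nat.card K := by
    set M := normalizer ((P : Subgroup G) : Set G)
    have hsup : M ⊔ K = ⊤ := hsup
    have e1 : M.relIndex K * K.index = (M ⊓ K).index := by
      rw [← relIndex_mul_index (inf_le_right : M ⊓ K ≤ K), inf_relIndex_right]
    have e2 : K.relIndex M * M.index = (M ⊓ K).index := by
      rw [← relIndex_mul_index (inf_le_left : M ⊓ K ≤ M), inf_comm, inf_relIndex_right]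
    have e3 : K.relIndex M = K.index := by
      rw [← relIndex_sup_right M K, hsup, relIndex_top_right]
    have e4 : M.index = M.relIndex K :=
      Nat.eq_of_mul_eq_mul_left (Nat.pos_of_ne_zero (K.index_ne_zero_of_finite))
        (by rw [e3] at e2; rw [e2, ← e1, mul_comm])
    rw [e4]
    exact relIndex_dvd_card _ _
  have h2 : cIdx a ∣ (normalizer ((P : Subgroup G) : Set G)).index :=
    index_dvd_of_le ((hp P).trans (centralizer_le (by simpa using ha)))
  exact MonoidHom.not_dvd_card_ker_transferSylow Q (hq Q) ((hdvd.trans h2).trans h1)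

/-- commuting elements with coprime class sizes: all their conjugates commute -/
theorem conj_commute_of_coprime {a b : G} (hab : Commute a b) (h : (cIdx a).Coprime (cIdx b))
    (x : G) : Commute (x * a * x⁻¹) b := by
  classical
  set A := centralizer ({a} : Set G)
  set B := centralizer ({b} : Set G)
  have h1 : A.relIndex B * B.index = (A ⊓ B).index := by
    rw [← relIndex_mul_index (inf_le_right : A ⊓ B ≤ B), inf_relIndex_right]
  have h2 : A.index ∣ A.relIndex B := by
    refine Nat.Coprime.dvd_of_dvd_mul_right h ?_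
    rw [show cIdx b = B.index from rfl, h1]
    exact index_dvd_of_le inf_le_left
  have h3 : A.index ≤ A.relIndex B :=
    Nat.le_of_dvd (Nat.pos_of_ne_zero index_ne_zero_of_finite) h2
  let f : B ⧸ A.subgroupOf B → G ⧸ A := Quotient.map' (fun c => (c : G)) (fun c d hcd => by
    rw [QuotientGroup.leftRel_apply] at hcd ⊢
    simpa [mem_subgroupOf] using hcd)
  have hinj : Function.Injective f := by
    rintro ⟨c⟩ ⟨d⟩ hcd
    apply Quotient.sound'
    have := Quotient.exact' hcd
    rw [QuotientGroup.leftRel_apply] at this ⊢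
    simpa [mem_subgroupOf] using this
  have hcard : Nat.card (B ⧸ A.subgroupOf B) = Nat.card (G ⧸ A) :=
    le_antisymm (Nat.card_le_card_of_injective f hinj) h3
  have hsurj := ((Nat.bijective_iff_injective_and_card f).mpr ⟨hinj, hcard⟩).2
  obtain ⟨⟨c⟩, hc⟩ := hsurj (x : G ⧸ A)
  have hd : (c : G)⁻¹ * x ∈ A := QuotientGroup.eq.mp hc
  have e : x * a * x⁻¹ = c * a * (c : G)⁻¹ := by
    have := (mem_cent.mp hd).eq
    calc x * a * x⁻¹ = c * (((c : G)⁻¹ * x) * a) * x⁻¹ := by group
      _ = c * (a * ((c : G)⁻¹ * x)) * x⁻¹ := by rw [this]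
      _ = c * a * (c : G)⁻¹ := by group
  rw [e]
  have hcb : Commute (c : G) b := mem_cent.mp c.2
  exact ((hcb.mul_left hab).mul_left hcb.inv_left)

/-- a normal closure contains an element commuting with no conjugate of the generator -/
theorem exists_no_conj_commute {p : ℕ} [Fact p.Prime] (hp : Good p G) {a : G}
    (hap : ∃ k, a ^ p ^ k = 1) (hac : a ∉ center G) :
    ∃ α ∈ normalClosure ({a} : Set G), ∀ x : G, ¬ Commute (x * a * x⁻¹) α := by
  set N := normalClosure ({a} : Set G) with hN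
  have haN : a ∈ N := subset_normalClosure rfl
  obtain ⟨k, hk⟩ := hap
  have hIs : ∀ (y : ↥N), (y : G) ^ p ^ k = 1 → IsPGroup p (zpowers y) := by
    intro y hy
    rintro ⟨z, i, rfl⟩
    exact ⟨k, Subtype.ext (by
      show (y ^ i) ^ p ^ k = 1
      rw [← zpow_natCast, zpow_comm, zpow_natCast,
        show y ^ p ^ k = 1 from Subtype.ext (by simpa using hy), one_zpow])⟩
  obtain ⟨R, hR⟩ := (hIs ⟨a, haN⟩ hk).exists_le_sylow
  obtain ⟨P, hP⟩ := (R.2.map N.subtype).exists_le_sylow
  have key : ∀ x : G, ∃ n : ↥N, x * a * x⁻¹ = (n : G) * a * (n : G)⁻¹ := by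
    intro x
    have hxN : x * a * x⁻¹ ∈ N := (normalClosure_normal).conj_mem a haN x
    obtain ⟨R', hR'⟩ := (hIs ⟨_, hxN⟩ (by simp [conj_pow, hk])).exists_le_sylow
    obtain ⟨n, hn⟩ := MulAction.exists_smul_eq (↥N) R' R
    refine ⟨n⁻¹, ?_⟩
    have hmem : (n : G) * (x * a * x⁻¹) * (n : G)⁻¹ ∈ P := hP ⟨n * ⟨_, hxN⟩ * n⁻¹, by
      rw [← hn, Sylow.coe_subgroup_smul]; exact ⟨_, hR' (mem_zpowers _), rfl⟩, by simp⟩
    have haP : a ∈ P := hP ⟨⟨a, haN⟩, hR (mem_zpowers _), rfl⟩
    have e := conj_eq_of_mem hp P (x := (n : G) * x) haP (by convert hmem using 1; group)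
    calc x * a * x⁻¹ = (n : G)⁻¹ * ((n : G) * x * a * ((n : G) * x)⁻¹) * n := by group
      _ = _ := by rw [e]; simp
  by_contra hcon
  push Not at hcon
  set H : Subgroup ↥N := (centralizer ({a} : Set G)).subgroupOf N
  have htop : H = ⊤ := eq_top_of_covered fun α => by
    obtain ⟨x, hx⟩ := hcon α α.2
    obtain ⟨n, hn⟩ := key x
    refine ⟨n, ?_⟩
    rw [hn] at hx
    simp only [H, mem_subgroupOf, mem_cent, coe_mul, coe_inv]
    have := hx.symm.map (MulAut.conj (n : G)⁻¹).toMonoidHom
    simpa [MulAut.conj_apply, mul_assoc] using this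
  apply hac
  rw [mem_center_iff]
  intro x
  obtain ⟨n, hn⟩ := key x
  have hna : Commute (n : G) a := mem_cent.mp (mem_subgroupOf.mp (htop ▸ mem_top n : n ∈ H))
  rw [hna.eq] at hn
  calc x * a = (x * a * x⁻¹) * x := by group
    _ = a * x := by rw [hn]; group

end CfsgLib.ClassGraph
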